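import Groth.Agent.SheafHomX.Coherent
import Groth.Agent.KFlatLib.Scheme.RHomLocal
import Groth.Agent.QCoh.LocFree

/-!
# `Hom(E, N) ≅ N ⊗ Hom(E, O)` for finite locally free `E`
-/

set_option autoImplicit false
set_option linter.style.haveILetI false
set_option linter.unusedSectionVars false
set_option backward.isDefEq.respectTransparency false
set_option backward.isDefEq.respectTransparency.types false

universe u

open CategoryTheory CategoryTheory.Limits AlgebraicGeometry

attribute [local instance] HasDerivedCategory.standard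

namespace Groth.Agent.SheafHomY

open Groth.Agent Groth.Agent.SheafHomX

variable {X : Scheme.{u}}

/-- The dual. -/
noncomputable abbrev dual (E : X.Modules) : X.Modules := (hom E).obj (Coh.structureModule X)

/-- The transpose of the comparison map. -/
noncomputable def thetaAux (E N : X.Modules) :
    (ten E).obj (((DCoh.tensorBi (X := X)).obj N).obj (dual E)) ⟶ N :=
  ((((KFlatLib.tensorAssocSch X).app N).app (dual E)).app E).hom ≫
    ((DCoh.tensorBi (X := X)).obj N).map ((adj E).counit.app (Coh.structureModule X)) ≫
    ((KFlatLib.tensorStructureIso X).app N).hom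

/-- The comparison map `N ⊗ E^∨ ⟶ Hom(E, N)`. -/
noncomputable def theta (E N : X.Modules) :
    ((DCoh.tensorBi (X := X)).obj N).obj (dual E) ⟶ (hom E).obj N :=
  (adj E).homEquiv _ _ (thetaAux E N)

theorem theta_symm (E N : X.Modules) : ((adj E).homEquiv _ _).symm (theta E N) = thetaAux E N :=
  Equiv.symm_apply_apply _ _

/-- Naturality in the target. -/
theorem theta_naturality (E : X.Modules) {N N' : X.Modules} (g : N ⟶ N') :
    ((DCoh.tensorBi (X := X)).map g).app (dual E) ≫ theta E N' = theta E N ≫ (hom E).map g := by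
  refine hom_ext ?_
  rw [Adjunction.homEquiv_naturality_left_symm, Adjunction.homEquiv_naturality_right_symm, theta_symm, theta_symm,
    thetaAux, thetaAux]
  have h1 := congr_app (congr_app ((KFlatLib.tensorAssocSch X).hom.naturality g) (dual E)) E
  have h2 := ((DCoh.tensorBi (X := X)).map g).naturality ((adj E).counit.app (Coh.structureModule X))
  have h3 := (KFlatLib.tensorStructureIso X).hom.naturality g
  simp only [Iso.app_hom, Category.assoc, NatTrans.comp_app] at h1 h2 h3 ⊢
  refine ((reassoc_of% h1) _).trans ?_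
  refine congrArg (_ ≫ ·) ?_
  refine ((reassoc_of% h2) _).symm.trans ?_
  exact congrArg (_ ≫ ·) h3

/-- Naturality in the source. -/
theorem theta_homMap {E E' : X.Modules} (h : E ⟶ E') (N : X.Modules) :
    ((DCoh.tensorBi (X := X)).obj N).map ((homMap h).app (Coh.structureModule X)) ≫ theta E N =
      theta E' N ≫ (homMap h).app N := by
  refine hom_ext ?_
  rw [Adjunction.homEquiv_naturality_left_symm, theta_symm, homEquiv_homMap, theta_symm, thetaAux, thetaAux]
  have h1 := congr_app (((KFlatLib.tensorAssocSch X).hom.app N).naturality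
    ((homMap h).app (Coh.structureModule X))) E
  have h2 : (ten E).map ((homMap h).app (Coh.structureModule X)) ≫ (adj E).counit.app (Coh.structureModule X) =
      ((DCoh.tensorBi (X := X)).flip.map h).app (dual E') ≫ (adj E').counit.app (Coh.structureModule X) :=
    conjugateEquiv_counit _ _ _ _
  have h3 := (((KFlatLib.tensorAssocSch X).hom.app N).app (dual E')).naturality h
  simp only [Iso.app_hom, Category.assoc, NatTrans.comp_app] at h1 h3 ⊢
  refine ((reassoc_of% h1) _).trans ?_
  refine Eq.trans ?_ ((reassoc_of% h3) _).symm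
  refine congrArg (_ ≫ ·) ?_
  refine (Functor.map_comp_assoc ((DCoh.tensorBi (X := X)).obj N) _ _ _).symm.trans ?_
  refine Eq.trans ?_ (Functor.map_comp_assoc ((DCoh.tensorBi (X := X)).obj N) _ _ _)
  have h2' : ((DCoh.tensorBi (X := X)).map ((homMap h).app (Coh.structureModule X))).app E ≫
      (adj E).counit.app (Coh.structureModule X) =
      ((DCoh.tensorBi (X := X)).obj (dual E')).map h ≫ (adj E').counit.app (Coh.structureModule X) := h2
  rw [h2']

theorem isIso_theta_unit (N : X.Modules) : IsIso (theta (Coh.structureModule X) N) := by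
  let O := Coh.structureModule X
  haveI : (hom O).Full := Functor.Full.of_iso (SheafHomX.unitIso X).symm
  haveI : (hom O).Faithful := Functor.Faithful.of_iso (SheafHomX.unitIso X).symm
  haveI : ∀ L, IsIso ((adj O).counit.app L) := fun L => inferInstance
  haveI h1 : IsIso (thetaAux O N) := by rw [thetaAux]; infer_instance
  have h2 : (ten O).map (theta O N) ≫ (adj O).counit.app N = thetaAux O N :=
    ((adj O).homEquiv_counit _ _ _).symm.trans (theta_symm O N)
  haveI : IsIso ((ten O).map (theta O N) ≫ (adj O).counit.app N) := by rw [h2]; exact h1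
  haveI : IsIso ((ten O).map (theta O N)) := IsIso.of_isIso_comp_right _ ((adj O).counit.app N)
  exact (NatIso.isIso_map_iff (KFlatLib.tensorStructureIso X) (theta O N)).1 this

theorem homMap_sum {ι : Type*} (s : Finset ι) {M M' : X.Modules} (f : ι → (M ⟶ M')) (N : X.Modules) :
    (homMap (∑ i ∈ s, f i)).app N = ∑ i ∈ s, (homMap (f i)).app N :=
  map_sum (homMapHom M M' N) f s

/-- The comparison is an isomorphism when the identity factors through finitely many copies of `O`. -/
theorem isIso_theta_of_decomp {E : X.Modules} {n : ℕ} (ι : Fin n → (Coh.structureModule X ⟶ E))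
    (π : Fin n → (E ⟶ Coh.structureModule X)) (h : ∑ i, π i ≫ ι i = 𝟙 E) (N : X.Modules) : IsIso (theta E N) := by
  haveI := isIso_theta_unit N
  let T := (DCoh.tensorBi (X := X)).obj N
  refine ⟨∑ i, (homMap (ι i)).app N ≫ inv (theta (Coh.structureModule X) N) ≫
    T.map ((homMap (π i)).app (Coh.structureModule X)), ?_, ?_⟩
  · rw [Preadditive.comp_sum]
    calc _ = ∑ i, T.map ((homMap (π i ≫ ι i)).app (Coh.structureModule X)) :=
          Finset.sum_congr rfl fun i _ => by
            rw [← Category.assoc, ← theta_homMap, Category.assoc, IsIso.hom_inv_id_assoc, ← Functor.map_comp, homMap_comp]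
      _ = 𝟙 _ := by rw [← Functor.map_sum, ← homMap_sum, h, homMap_id, CategoryTheory.Functor.map_id]
  · rw [Preadditive.sum_comp]
    calc _ = ∑ i, (homMap (π i ≫ ι i)).app N :=
          Finset.sum_congr rfl fun i _ => by
            rw [Category.assoc, Category.assoc, theta_homMap, IsIso.inv_hom_id_assoc, homMap_comp]
      _ = 𝟙 _ := by rw [← homMap_sum, h, homMap_id]

theorem isIso_theta_freeMod (n : ℕ) (N : X.Modules) : IsIso (theta (FlatMod.freeMod X n) N) := by
  classical
  refine isIso_theta_of_decomp (fun i => Sigma.ι (fun _ : Fin n => Coh.structureModule X) i)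
    (fun i => Sigma.desc fun k => if k = i then 𝟙 _ else 0) (Sigma.hom_ext _ _ fun k => ?_) N
  rw [Preadditive.comp_sum, Category.comp_id, Finset.sum_eq_single k]
  · rw [Sigma.ι_desc_assoc, if_pos rfl, Category.id_comp]
  · intro i _ hi
    rw [Sigma.ι_desc_assoc, if_neg (Ne.symm hi), zero_comp]
  · exact fun hk => absurd (Finset.mem_univ k) hk

section Local

variable {U : Scheme.{u}} (j : U ⟶ X) [IsOpenImmersion j] {A B : X.Modules} (h : A ⟶ B)

theorem isIso_restrict_tensor (N : X.Modules) [IsIso ((Scheme.Modules.restrictFunctor j).map h)] :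
    IsIso ((Scheme.Modules.restrictFunctor j).map (((DCoh.tensorBi (X := X)).obj N).map h)) := by
  refine (NatIso.isIso_map_iff ((KFlatLib.restrictTensorBiIso j).app N) h).2 ?_
  exact inferInstanceAs (IsIso (((DCoh.tensorBi (X := U)).obj ((Scheme.Modules.restrictFunctor j).obj N)).map
    ((Scheme.Modules.restrictFunctor j).map h)))

theorem isIso_restrict_homMap (N : X.Modules) [IsIso ((Scheme.Modules.restrictFunctor j).map h)] :
    IsIso ((Scheme.Modules.restrictFunctor j).map ((homMap h).app N)) := by
  refine (isIso_iff_yoneda_map_bijective _).2 fun Z => ?_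
  let Zj := (KFlatLib.lsh j).obj Z
  haveI : IsIso (((DCoh.tensorBi (X := X)).flip.map h).app Zj) := by
    refine (NatIso.isIso_map_iff ((KFlatLib.projIso j).app Z) h).1 ?_
    exact inferInstanceAs (IsIso ((KFlatLib.lsh j).map (((DCoh.tensorBi (X := U)).obj Z).map
      ((Scheme.Modules.restrictFunctor j).map h))))
  let e : ∀ M : X.Modules, (Z ⟶ (Scheme.Modules.restrictFunctor j).obj ((hom M).obj N)) ≃ ((ten M).obj Zj ⟶ N) := fun M =>
    ((KFlatLib.lshAdj j).homEquiv _ _).symm.trans ((adj M).homEquiv _ _).symm
  have key : ∀ x, e A (x ≫ (Scheme.Modules.restrictFunctor j).map ((homMap h).app N)) =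
      ((DCoh.tensorBi (X := X)).flip.map h).app Zj ≫ e B x := fun x => by
    show ((adj A).homEquiv _ _).symm (((KFlatLib.lshAdj j).homEquiv _ _).symm _) = _
    rw [Adjunction.homEquiv_naturality_right_symm, homEquiv_homMap]
    rfl
  have hfun : (fun x : Z ⟶ (Scheme.Modules.restrictFunctor j).obj ((hom B).obj N) =>
      x ≫ (Scheme.Modules.restrictFunctor j).map ((homMap h).app N)) =
      (e A).symm ∘ (fun y => ((DCoh.tensorBi (X := X)).flip.map h).app Zj ≫ y) ∘ e B :=
    funext fun x => ((e A).symm_apply_apply _).symm.trans (congrArg (e A).symm (key x))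
  rw [hfun]
  exact (e A).symm.bijective.comp ((Iso.homCongr (asIso (((DCoh.tensorBi (X := X)).flip.map h).app Zj)).symm
    (Iso.refl N)).bijective.comp (e B).bijective |> fun hb => by simpa [Function.comp_def, Iso.homCongr] using hb)

theorem isIso_restrict_theta_iff (N : X.Modules) [IsIso ((Scheme.Modules.restrictFunctor j).map h)] :
    IsIso ((Scheme.Modules.restrictFunctor j).map (theta A N)) ↔
      IsIso ((Scheme.Modules.restrictFunctor j).map (theta B N)) := by
  haveI := isIso_restrict_homMap j h N
  haveI := isIso_restrict_homMap j h (Coh.structureModule X)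
  haveI := isIso_restrict_tensor j ((homMap h).app (Coh.structureModule X)) N
  have w := congrArg (fun t => (Scheme.Modules.restrictFunctor j).map t) (theta_homMap h N)
  simp only [Functor.map_comp] at w
  constructor
  · intro hA
    haveI : IsIso ((Scheme.Modules.restrictFunctor j).map (theta B N) ≫
        (Scheme.Modules.restrictFunctor j).map ((homMap h).app N)) := by rw [← w]; infer_instance
    exact IsIso.of_isIso_comp_right _ ((Scheme.Modules.restrictFunctor j).map ((homMap h).app N))
  · intro hB
    haveI : IsIso ((Scheme.Modules.restrictFunctor j).map (((DCoh.tensorBi (X := X)).obj N).map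
        ((homMap h).app (Coh.structureModule X))) ≫ (Scheme.Modules.restrictFunctor j).map (theta A N)) := by
      rw [w]; infer_instance
    exact IsIso.of_isIso_comp_left ((Scheme.Modules.restrictFunctor j).map (((DCoh.tensorBi (X := X)).obj N).map
        ((homMap h).app (Coh.structureModule X)))) _

theorem isIso_restrict_lsh_desc {M : U.Modules} (φ : M ≅ (Scheme.Modules.restrictFunctor j).obj A) :
    IsIso ((Scheme.Modules.restrictFunctor j).map (((KFlatLib.lshAdj j).homEquiv M A).symm φ.hom)) := by
  have h : (KFlatLib.lshAdj j).unit.app M ≫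
      (Scheme.Modules.restrictFunctor j).map (((KFlatLib.lshAdj j).homEquiv M A).symm φ.hom) = φ.hom :=
    ((KFlatLib.lshAdj j).homEquiv_unit _ _ _).symm.trans (Equiv.apply_symm_apply _ _)
  haveI : IsIso ((KFlatLib.lshAdj j).unit.app M ≫
      (Scheme.Modules.restrictFunctor j).map (((KFlatLib.lshAdj j).homEquiv M A).symm φ.hom)) := by
    rw [h]; infer_instance
  exact IsIso.of_isIso_comp_left ((KFlatLib.lshAdj j).unit.app M) _

end Local

theorem isIso_theta {E : X.Modules} (hE : FlatMod.IsFinLocFree E) (N : X.Modules) : IsIso (theta E N) := by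
  refine KFlatLib.isIso_of_stalk _ fun x => ?_
  obtain ⟨U, n, hx, ⟨e⟩⟩ := hE x
  let R := Scheme.Modules.restrictFunctor U.ι
  haveI := isIso_restrict_lsh_desc U.ι (A := E) (M := FlatMod.freeMod (U : Scheme.{u}) n) e.symm
  haveI := isIso_restrict_lsh_desc U.ι (A := FlatMod.freeMod X n) (M := FlatMod.freeMod (U : Scheme.{u}) n)
    (QCoh.freeModRestrict _ n).symm
  have hfree : IsIso (R.map (theta (FlatMod.freeMod X n) N)) := by
    haveI := isIso_theta_freeMod (X := X) n N
    infer_instance
  have hU : IsIso (R.map (theta E N)) :=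
    (isIso_restrict_theta_iff U.ι (((KFlatLib.lshAdj U.ι).homEquiv _ _).symm e.symm.hom) N).1
      ((isIso_restrict_theta_iff U.ι (((KFlatLib.lshAdj U.ι).homEquiv _ _).symm (QCoh.freeModRestrict _ n).symm.hom) N).2 hfree)
  haveI := hU
  have hb := ConcreteCategory.bijective_of_isIso
    ((DerSch.stalkFunctor (U : Scheme.{u}) ⟨x, hx⟩).map (R.map (theta E N)))
  exact (ConcreteCategory.isIso_iff_bijective _).2 ⟨KFlatLib.injective_stalk_of_restrict U.ι _ _ hb.1,
    KFlatLib.surjective_stalk_of_restrict U.ι _ _ hb.2⟩

/-- `Hom(E, -) ≅ - ⊗ E^∨`. -/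
noncomputable def thetaIso {E : X.Modules} (hE : FlatMod.IsFinLocFree E) :
    (DCoh.tensorBi (X := X)).flip.obj (dual E) ≅ hom E :=
  haveI := isIso_theta hE
  NatIso.ofComponents (fun N => asIso (theta E N)) fun {N N'} g => theta_naturality E g

end Groth.Agent.SheafHomY
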