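import Groth.Agent.SheafHomY.Dual
import Groth.Agent.SheafHomX.Extra
import Groth.Agent.KFlatLib.Scheme.EvalPerfect
import Groth.Agent.KFlatLib.Perfect.LocFree
import Groth.Agent.EtMVLib.ExtTools
import Groth.Agent.SiteBase.ExtMod
import Groth.Agent.KFlatLib.Scheme.RpushQCoh
import Groth.Agent.H9Misc.SupportsSS
import Groth.Prelude.Def_ModSite2

/-!
# Exactness of `Hom(E, -)` and `Ext` for finite locally free `E`
-/

set_option autoImplicit false
set_option linter.style.haveILetI false
set_option backward.isDefEq.respectTransparency false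
set_option backward.isDefEq.respectTransparency.types false

universe u

open CategoryTheory CategoryTheory.Limits AlgebraicGeometry

attribute [local instance] HasDerivedCategory.standard

namespace Groth.Agent.SheafHomY

open Groth.Agent Groth.Agent.SheafHomX

variable {X : Scheme.{u}} {E : X.Modules}

theorem preservesMonomorphisms_ten (hE : FlatMod.IsFinLocFree E) : (ten E).PreservesMonomorphisms :=
  ⟨fun {M N} f _ => (KFlatLib.flatObj_of_isFlat (KFlatLib.isFlat_of_isFinLocFree hE) (ShortComplex.mk f (cokernel.π f) (cokernel.condition f))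
    { exact := ShortComplex.exact_cokernel f }).mono_f⟩

theorem preservesFiniteColimits_hom (hE : FlatMod.IsFinLocFree E) : PreservesFiniteColimits (hom E) := by
  haveI : (ten (dual E)).IsLeftAdjoint := isLeftAdjoint_ten _
  haveI : PreservesColimitsOfSize.{u, u} (ten (dual E)) := inferInstance
  haveI : PreservesFiniteColimits (ten (dual E)) := PreservesColimitsOfSize.preservesFiniteColimits _
  exact preservesFiniteColimits_of_natIso (thetaIso hE)

theorem preservesFiniteLimits_hom (E : X.Modules) : PreservesFiniteLimits (hom E) := by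
  haveI : PreservesLimitsOfSize.{0, 0} (hom E) := (adj E).rightAdjoint_preservesLimits
  exact ⟨fun _ => inferInstance⟩

variable [HasExt.{u} X.Modules]

/-- `Ext(N ⊗ E, B) ≅ Ext(N, Hom(E, B))`. -/
theorem nonempty_ext_ten (hE : FlatMod.IsFinLocFree E) (N B : X.Modules) (p : ℕ) :
    Nonempty (Abelian.Ext ((ten E).obj N) B p ≃+ Abelian.Ext N ((hom E).obj B) p) := by
  haveI : HasInjectiveResolutions X.Modules := KFlatLib.hasInjectiveResolutions_modules
  haveI := SpObjSS.enoughInjectives_of_hasInjectiveResolutions (C := X.Modules)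
  haveI := preservesMonomorphisms_ten hE
  haveI := preservesFiniteColimits_hom hE
  haveI := preservesFiniteLimits_hom E
  exact ⟨AddEquiv.ofBijective _ (EtMVLib.adjExtMap_bijective (adj E) N B p)⟩

/-- `Ext(E, B) ≅ H(Hom(E, B))`. -/
theorem nonempty_ext_addEquiv_HH (hE : FlatMod.IsFinLocFree E) (B : X.Modules) (p : ℕ) :
    Nonempty (Abelian.Ext E B p ≃+ Coh.HH X ((hom E).obj B) p) := by
  obtain ⟨e₁⟩ := nonempty_ext_ten hE (Coh.structureModule X) B p
  obtain ⟨e₂⟩ := SiteBase.nonempty_ext_unit_addEquiv (R := ModSite.ringSh X.sheaf) ((hom E).obj B) p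
  let a : Abelian.Ext E B p ≃+ Abelian.Ext ((ten E).obj (Coh.structureModule X)) B p :=
    (((Abelian.extFunctor p).mapIso (tenUnitIso E).op).app B).addCommGroupIsoToAddEquiv
  exact ⟨(a.trans e₁).trans e₂⟩

end Groth.Agent.SheafHomY

namespace Groth.Agent.SheafHomY

open Groth.Agent Groth.Agent.SheafHomX

variable {X : Scheme.{u}} (E : X.Modules)

/-- The internal hom of the prelude agrees with the one used here. -/
noncomputable def sheafHomIso [ModSite.HasSheafHom (O := X.sheaf) E] : ModSite.sheafHom (O := X.sheaf) E ≅ hom E :=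
  (ModSite.sheafHomAdj (O := X.sheaf) E).rightAdjointUniq (adj E)

/-- The internal hom on the left agrees with the one used here. -/
noncomputable def sheafHomLeftIso [DCoh.HasSheafHom E] : DCoh.sheafHom E ≅ hom E :=
  ((DCoh.sheafHomAdj E).ofNatIsoLeft ((KFlatLib.tensorBiFlipIso X).app E).symm).rightAdjointUniq (adj E)

/-- `M ⊗ E ≅ (ten E) M`. -/
noncomputable def tensorModIsoTen (M : X.Modules) : CohB1.tensorMod M E ≅ (ten E).obj M := Iso.refl _

variable {E}

/-- `Hom(P, -) ≅ Hom(F, -) ⊗ E^∨` for `P ≅ E ⊗ F`. -/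
noncomputable def sheafHomTensorIso (hE : FlatMod.IsFinLocFree E) {F P : X.Modules} (e : (ten F).obj E ≅ P)
    [ModSite.HasSheafHom (O := X.sheaf) F] [ModSite.HasSheafHom (O := X.sheaf) P] :
    ModSite.sheafHom (O := X.sheaf) P ≅ ModSite.sheafHom (O := X.sheaf) F ⋙ ten (dual E) :=
  ((ModSite.sheafHomAdj (O := X.sheaf) P).ofNatIsoLeft
    ((DCoh.tensorBi (X := X)).flip.mapIso e.symm ≪≫
      (NatIso.ofComponents (fun Z => ((((KFlatLib.tensorAssocSch X).app Z).app E).app F).symm)
        (fun {Z Z'} g => (congr_app (congr_app ((KFlatLib.tensorAssocSch X).inv.naturality g) E) F :)) :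
          ten ((ten F).obj E) ≅ ten E ⋙ ten F))).rightAdjointUniq
      ((adj E).comp (ModSite.sheafHomAdj (O := X.sheaf) F)) ≪≫
    Functor.isoWhiskerLeft (ModSite.sheafHom (O := X.sheaf) F) (thetaIso hE).symm

/-- The local Ext sheaves of `P ≅ E ⊗ F`. -/
theorem nonempty_extSh_tensor_iso (hE : FlatMod.IsFinLocFree E) {F P : X.Modules} (e : (ten F).obj E ≅ P)
    [ModSite.HasSheafHom (O := X.sheaf) F] [ModSite.HasSheafHom (O := X.sheaf) P]
    [HasInjectiveResolutions (ModSite.Mod X.sheaf)] (q : ℕ) (G : X.Modules) :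
    Nonempty ((ModSite.extSh (O := X.sheaf) P q).obj G ≅ (ten (dual E)).obj ((ModSite.extSh (O := X.sheaf) F q).obj G)) := by
  haveI : EnoughInjectives (ModSite.Mod X.sheaf) := SpObjSS.enoughInjectives_of_hasInjectiveResolutions
  haveI : EnoughInjectives X.Modules := ‹EnoughInjectives (ModSite.Mod X.sheaf)›
  haveI : (ten (dual E)).Additive := Functor.additive_of_iso (thetaIso hE).symm
  haveI : PreservesFiniteLimits (ten (dual E)) :=
    haveI := preservesFiniteLimits_hom E
    preservesFiniteLimits_of_natIso (thetaIso hE).symm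
  haveI : PreservesFiniteColimits (ten (dual E)) :=
    haveI := preservesFiniteColimits_hom hE
    preservesFiniteColimits_of_natIso (thetaIso hE).symm
  exact ⟨(SiteBase.rightDerivedCongr (sheafHomTensorIso hE e) q ≪≫
    SiteBase.rightDerivedCompIso (ModSite.sheafHom (O := X.sheaf) F) (ten (dual E)) q).app G⟩

end Groth.Agent.SheafHomY
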