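import Groth.Agent.SheafHomY.Dual
import Groth.Agent.KFlatLib.Scheme.AcyclicPush

/-!
# A finite locally free module is its own bidual
-/

set_option autoImplicit false
set_option linter.style.haveILetI false
set_option linter.unusedSectionVars false
set_option backward.isDefEq.respectTransparency false
set_option backward.isDefEq.respectTransparency.types false

universe u

open CategoryTheory CategoryTheory.Limits AlgebraicGeometry

attribute [local instance] HasDerivedCategory.standard

namespace Groth.Agent.SheafHomY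

open Groth.Agent Groth.Agent.SheafHomX

variable {X : Scheme.{u}}

/-- The transpose of the evaluation. -/
noncomputable def bidualAux (E : X.Modules) : (ten (dual E)).obj E ⟶ Coh.structureModule X :=
  (((KFlatLib.tensorBiFlipIso X).app (dual E)).app E).hom ≫ (adj E).counit.app (Coh.structureModule X)

/-- The map into the bidual. -/
noncomputable def toDD (E : X.Modules) : E ⟶ dual (dual E) :=
  (adj (dual E)).homEquiv _ _ (bidualAux E)

theorem toDD_symm (E : X.Modules) :
    ((adj (dual E)).homEquiv _ _).symm (toDD E) = bidualAux E :=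
  Equiv.symm_apply_apply _ _

/-- The map induced on biduals. -/
noncomputable def ddMap {E E' : X.Modules} (h : E ⟶ E') : dual (dual E) ⟶ dual (dual E') :=
  (homMap ((homMap h).app (Coh.structureModule X))).app (Coh.structureModule X)

theorem toDD_naturality {E E' : X.Modules} (h : E ⟶ E') : h ≫ toDD E' = toDD E ≫ ddMap h := by
  refine hom_ext ?_
  rw [Adjunction.homEquiv_naturality_left_symm, ddMap, homEquiv_homMap, toDD_symm, toDD_symm, bidualAux, bidualAux]
  have h1 := (((KFlatLib.tensorBiFlipIso X).hom.app (dual E'))).naturality h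
  have h2 : (ten E).map ((homMap h).app (Coh.structureModule X)) ≫ (adj E).counit.app (Coh.structureModule X) =
      ((DCoh.tensorBi (X := X)).flip.map h).app (dual E') ≫ (adj E').counit.app (Coh.structureModule X) :=
    conjugateEquiv_counit _ _ _ _
  have h3 := congr_app ((KFlatLib.tensorBiFlipIso X).hom.naturality ((homMap h).app (Coh.structureModule X))) E
  simp only [Iso.app_hom, NatTrans.comp_app] at h1 h3 ⊢
  refine ((reassoc_of% h1) _).trans ?_
  refine Eq.trans ?_ ((reassoc_of% h3) _).symm
  exact congrArg (_ ≫ ·) h2.symm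

theorem ddMap_id (E : X.Modules) : ddMap (𝟙 E) = 𝟙 _ := by rw [ddMap, homMap_id, homMap_id]

theorem ddMap_comp {E E' E'' : X.Modules} (f : E ⟶ E') (g : E' ⟶ E'') : ddMap (f ≫ g) = ddMap f ≫ ddMap g := by
  rw [ddMap, homMap_comp, homMap_comp]; rfl

theorem ddMap_sum {ι : Type*} (s : Finset ι) {E E' : X.Modules} (f : ι → (E ⟶ E')) :
    ddMap (∑ i ∈ s, f i) = ∑ i ∈ s, ddMap (f i) := by
  rw [ddMap, homMap_sum, homMap_sum]; rfl

theorem isIso_toDD_unit : IsIso (toDD (Coh.structureModule X)) := by
  let O := Coh.structureModule X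
  haveI : (hom O).Full := Functor.Full.of_iso (SheafHomX.unitIso X).symm
  haveI : (hom O).Faithful := Functor.Faithful.of_iso (SheafHomX.unitIso X).symm
  haveI : ∀ L, IsIso ((adj O).counit.app L) := fun L => inferInstance
  haveI h1 : IsIso (bidualAux O) := by rw [bidualAux]; infer_instance
  let eT : ten (dual O) ≅ 𝟭 X.Modules :=
    (DCoh.tensorBi (X := X)).flip.mapIso ((SheafHomX.unitIso X).app O) ≪≫
      (show ten O ≅ 𝟭 X.Modules from KFlatLib.tensorStructureIso X)
  haveI : (ten (dual O)).Full := Functor.Full.of_iso eT.symm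
  haveI : (ten (dual O)).Faithful := Functor.Faithful.of_iso eT.symm
  haveI : ∀ L, IsIso ((adj (dual O)).unit.app L) := fun L => inferInstance
  rw [toDD, Adjunction.homEquiv_unit]
  infer_instance

theorem isIso_toDD_of_decomp {E : X.Modules} {n : ℕ} (ι : Fin n → (Coh.structureModule X ⟶ E))
    (π : Fin n → (E ⟶ Coh.structureModule X)) (h : ∑ i, π i ≫ ι i = 𝟙 E) : IsIso (toDD E) := by
  haveI := isIso_toDD_unit (X := X)
  refine ⟨∑ i, ddMap (π i) ≫ inv (toDD (Coh.structureModule X)) ≫ ι i, ?_, ?_⟩
  · rw [Preadditive.comp_sum, ← h]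
    refine Finset.sum_congr rfl fun i _ => ?_
    rw [← Category.assoc, ← toDD_naturality, Category.assoc, IsIso.hom_inv_id_assoc]
  · rw [Preadditive.sum_comp]
    calc _ = ∑ i, ddMap (π i ≫ ι i) :=
          Finset.sum_congr rfl fun i _ => by
            rw [Category.assoc, Category.assoc, toDD_naturality, IsIso.inv_hom_id_assoc, ddMap_comp]
      _ = 𝟙 _ := by rw [← ddMap_sum, h, ddMap_id]

theorem isIso_toDD_freeMod (n : ℕ) : IsIso (toDD (FlatMod.freeMod X n)) := by
  classical
  refine isIso_toDD_of_decomp (fun i => Sigma.ι (fun _ : Fin n => Coh.structureModule X) i)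
    (fun i => Sigma.desc fun k => if k = i then 𝟙 _ else 0) (Sigma.hom_ext _ _ fun k => ?_)
  rw [Preadditive.comp_sum, Category.comp_id, Finset.sum_eq_single k]
  · rw [Sigma.ι_desc_assoc, if_pos rfl, Category.id_comp]
  · intro i _ hi
    rw [Sigma.ι_desc_assoc, if_neg (Ne.symm hi), zero_comp]
  · exact fun hk => absurd (Finset.mem_univ k) hk

theorem isIso_restrict_toDD_iff {U : Scheme.{u}} (j : U ⟶ X) [IsOpenImmersion j] {A B : X.Modules} (h : A ⟶ B)
    [IsIso ((Scheme.Modules.restrictFunctor j).map h)] :
    IsIso ((Scheme.Modules.restrictFunctor j).map (toDD A)) ↔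
      IsIso ((Scheme.Modules.restrictFunctor j).map (toDD B)) := by
  haveI := isIso_restrict_homMap j h (Coh.structureModule X)
  haveI : IsIso ((Scheme.Modules.restrictFunctor j).map (ddMap h)) :=
    isIso_restrict_homMap j ((homMap h).app (Coh.structureModule X)) (Coh.structureModule X)
  have w := congrArg (fun t => (Scheme.Modules.restrictFunctor j).map t) (toDD_naturality h)
  simp only [Functor.map_comp] at w
  constructor
  · intro hA
    haveI : IsIso ((Scheme.Modules.restrictFunctor j).map h ≫ (Scheme.Modules.restrictFunctor j).map (toDD B)) := by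
      rw [w]; infer_instance
    exact IsIso.of_isIso_comp_left ((Scheme.Modules.restrictFunctor j).map h) _
  · intro hB
    haveI : IsIso ((Scheme.Modules.restrictFunctor j).map (toDD A) ≫
        (Scheme.Modules.restrictFunctor j).map (ddMap h)) := by
      rw [← w]; infer_instance
    exact IsIso.of_isIso_comp_right _ ((Scheme.Modules.restrictFunctor j).map (ddMap h))

set_option maxHeartbeats 1600000 in
theorem isIso_toDD {E : X.Modules} (hE : FlatMod.IsFinLocFree E) : IsIso (toDD E) := by
  refine KFlatLib.isIso_of_isIso_restrict _ fun x => ?_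
  obtain ⟨U, n, hx, ⟨e⟩⟩ := hE x
  let R := Scheme.Modules.restrictFunctor U.ι
  haveI := isIso_restrict_lsh_desc U.ι (A := E) (M := FlatMod.freeMod (U : Scheme.{u}) n) e.symm
  haveI := isIso_restrict_lsh_desc U.ι (A := FlatMod.freeMod X n) (M := FlatMod.freeMod (U : Scheme.{u}) n)
    (QCoh.freeModRestrict _ n).symm
  have hfree : IsIso (R.map (toDD (FlatMod.freeMod X n))) := by
    haveI := isIso_toDD_freeMod (X := X) n
    infer_instance
  exact ⟨U, hx,
    (isIso_restrict_toDD_iff U.ι (((KFlatLib.lshAdj U.ι).homEquiv _ _).symm e.symm.hom)).1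
      ((isIso_restrict_toDD_iff U.ι (((KFlatLib.lshAdj U.ι).homEquiv _ _).symm (QCoh.freeModRestrict _ n).symm.hom)).2 hfree)⟩

/-- Maps `A ⊗ E^∨ → O` are maps `A → E`. -/
noncomputable def homDualEquiv {E : X.Modules} (hE : FlatMod.IsFinLocFree E) (A : X.Modules) :
    ((ten (dual E)).obj A ⟶ Coh.structureModule X) ≃ (A ⟶ E) :=
  haveI := isIso_toDD hE
  ((adj (dual E)).homEquiv _ _).trans (Iso.homCongr (Iso.refl A) (asIso (toDD E)).symm)

end Groth.Agent.SheafHomY
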